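import Mathlib
import Groth.Prelude.Def_LCI2
import Groth.Agent.DefSchLib.LCIRel
import Groth.Agent.RelDivLib.FlatSeq
import Groth.Agent.ConormalLib.RingH1
import Groth.Agent.S9273
import Groth.Agent.S2868
import Groth.Agent.CMSeqLib.Basic
import Groth.Agent.RatliffLib.Formal
import Groth.Agent.FibreDepth.Bridge

/-!
Embedded points in the fibres of flat local complete intersections.
-/

set_option autoImplicit false
set_option linter.style.haveILetI false
set_option linter.unusedSectionVars false
universe u

open IsLocalRing RingTheory.Sequence TensorProduct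

noncomputable section

namespace Groth.Agent.LciH1Lib

/-- Koszul-regular sequences are `H₁`-regular. -/
theorem isH1Regular_get {R : Type u} [CommRing R] {l : List R} (hl : LCI.IsKoszulRegularSeq R l) :
    CAlgX.IsH1Regular l.get := by
  classical
  intro a ha
  let f := l.get
  let φ := Finsupp.linearEquivFunOnFinite R R (Fin l.length)
  have hlc : ∀ x : Fin l.length →₀ R, Finsupp.linearCombination R f x = ∑ i, x i * f i := fun x => by
    rw [Finsupp.linearCombination_apply, Finsupp.sum_fintype _ _ (by simp)]
    rfl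
  have hq : φ.symm a ∈ LinearMap.ker (Finsupp.linearCombination R f) := by
    rw [LinearMap.mem_ker, hlc, ← ha]
    rfl
  have h1 := DefSchLib.ker_le_trivR_of_isKoszulRegularSeq hl hq
  suffices h : ∀ y ∈ CotTLib.trivR f, φ y ∈ Submodule.span R
      {v : Fin l.length → R | ∃ i j : Fin l.length, v = Pi.single i (f j) - Pi.single j (f i)} by
    have h2 := h _ h1
    rwa [LinearEquiv.apply_symm_apply] at h2
  intro y hy
  induction hy using Submodule.span_induction with
  | mem y hy =>
    obtain ⟨x, x', rfl⟩ := hy
    have e : φ (Finsupp.linearCombination R f x • x' - Finsupp.linearCombination R f x' • x) =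
        ∑ i, ∑ j, (x' i * x j) • (Pi.single i (f j) - Pi.single j (f i) : Fin l.length → R) := by
      funext k
      simp only [φ, map_sub, map_smul, hlc, Pi.sub_apply, Pi.smul_apply, Finset.sum_apply, smul_eq_mul,
        Pi.single_apply, mul_sub, mul_ite, mul_zero, Finset.sum_sub_distrib,
        Finsupp.linearEquivFunOnFinite_apply]
      rw [Finset.sum_comm (f := fun i j => if k = i then x' i * x j * f j else 0)]
      simp only [Finset.sum_ite_eq, Finset.mem_univ, if_true, Finsupp.sub_apply, Finsupp.smul_apply,
        smul_eq_mul, Finset.sum_mul]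
      congr 1
      · exact Finset.sum_congr rfl fun i _ => by ring
      · exact Finset.sum_congr rfl fun i _ => by ring
    rw [e]
    exact Submodule.sum_mem _ fun i _ => Submodule.sum_mem _ fun j _ =>
      Submodule.smul_mem _ _ (Submodule.subset_span ⟨i, j, rfl⟩)
  | zero => simp
  | add a b _ _ ha hb => rw [map_add]; exact add_mem ha hb
  | smul c a _ ha => rw [map_smul]; exact Submodule.smul_mem _ _ ha

theorem isH1Regular_equiv {R S : Type u} [CommRing R] [CommRing S] (e : R ≃+* S) {n : ℕ} {f : Fin n → R}
    (hf : CAlgX.IsH1Regular f) : CAlgX.IsH1Regular (fun i => e (f i)) := by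
  letI : Algebra R S := e.toRingHom.toAlgebra
  haveI : Module.Flat R S :=
    Module.Flat.of_linearEquiv (LinearEquiv.ofBijective (Algebra.linearMap R S) e.bijective).symm
  exact RelDivLib.isH1Regular_flat (S := S) hf

variable {A : Type u} [CommRing A] [IsLocalRing A] [IsNoetherianRing A]

theorem cm_quot_of_isWeaklyRegular : ∀ (rs : List A) (M : Type u) [AddCommGroup M] [Module A M]
    [Module.Finite A M], LocCoh.IsCohenMacaulayModule A M → (∀ r ∈ rs, r ∈ maximalIdeal A) →
      IsWeaklyRegular M rs → LocCoh.IsCohenMacaulayModule A (M ⧸ (Ideal.ofList rs • ⊤ : Submodule A M))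
  | [], M, _, _, _, hM, _, _ => by
    refine CMSeqLib.cm_congr ?_ hM
    exact ((Submodule.quotEquivOfEq _ _ (by simp [Ideal.ofList_nil])).trans
      (Submodule.quotEquivOfEqBot _ rfl)).symm
  | x :: rs, M, _, _, _, hM, hm, hr => by
    have hx := hm x List.mem_cons_self
    rw [isWeaklyRegular_cons_iff] at hr
    have := cm_quot_of_isWeaklyRegular rs (QuotSMulTop x M)
      (CMSeqLib.isCohenMacaulayModule_quotSMulTop hM hx hr.1)
      (fun r hr => hm r (List.mem_cons_of_mem _ hr)) hr.2
    exact CMSeqLib.cm_congr (Submodule.quotOfListConsSMulTopEquivQuotSMulTopInner M x rs).symm this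

/-- In a Cohen–Macaulay local ring, if the maximal ideal is associated to the quotient by an
`H₁`-regular family, it is the only prime containing the family. -/
theorem eq_maximalIdeal_of_h1 (hA : LocCoh.IsCohenMacaulayModule A A) {n : ℕ} (f : Fin n → A)
    (hm : ∀ i, f i ∈ maximalIdeal A) (hf : CAlgX.IsH1Regular f) (y : A)
    (hy : y ∉ Ideal.span (Set.range f)) (hann : ∀ r ∈ maximalIdeal A, r * y ∈ Ideal.span (Set.range f))
    (R : Ideal A) [R.IsPrime] (hR : ∀ i, f i ∈ R) : R = maximalIdeal A := by
  classical
  let J := Ideal.span (Set.range f)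
  have hKos : CInt.KoszulH1Zero f A := fun m hm0 => by
    have h := hf m (by simpa [smul_eq_mul, mul_comm] using hm0)
    refine Submodule.span_mono ?_ h
    rintro _ ⟨i, j, rfl⟩
    exact ⟨i, j, 1, funext fun k => by simp [Pi.single_apply]⟩
  have hw : IsWeaklyRegular A (List.ofFn f) := S2868.result f
    (fun i => maximalIdeal_le_jacobson _ (hm i)) A hKos
  have hJ : Ideal.ofList (List.ofFn f) = J := by
    simp only [Ideal.ofList, List.mem_ofFn, J]
    rfl
  have hcm := cm_quot_of_isWeaklyRegular (List.ofFn f) A hA
    (by simp only [List.mem_ofFn]; rintro _ ⟨i, rfl⟩; exact hm i) hw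
  let M := A ⧸ J
  have hcm' : LocCoh.IsCohenMacaulayModule A M := CMSeqLib.cm_congr
    (Submodule.quotEquivOfEq _ _ (by rw [hJ, smul_eq_mul, Ideal.mul_top])) hcm
  have hass : maximalIdeal A ∈ associatedPrimes A M := by
    refine (isAssociatedPrime_iff_exists_injective_linearMap _ _).2 ⟨inferInstance, ?_⟩
    refine ⟨Submodule.liftQ _ (LinearMap.toSpanSingleton A M (Submodule.Quotient.mk y)) (fun r hr => ?_), ?_⟩
    · rw [LinearMap.mem_ker, LinearMap.toSpanSingleton_apply, ← Submodule.Quotient.mk_smul,
        Submodule.Quotient.mk_eq_zero]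
      exact hann r hr
    · rw [injective_iff_map_eq_zero]
      intro z hz
      obtain ⟨r, rfl⟩ := Submodule.Quotient.mk_surjective _ z
      rw [Submodule.liftQ_apply, LinearMap.toSpanSingleton_apply, ← Submodule.Quotient.mk_smul,
        Submodule.Quotient.mk_eq_zero, smul_eq_mul] at hz
      rw [Submodule.Quotient.mk_eq_zero]
      by_contra hr
      have hu : IsUnit r := not_not.mp fun h => hr ((mem_maximalIdeal r).mpr h)
      exact hy ((Ideal.unit_mul_mem_iff_mem _ hu).mp hz)
  have h0 := CMSeqLib.ringKrullDim_quotient_eq hcm' hass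
  rw [Module.supportDim_quotient_eq_ringKrullDim] at h0
  letI := Ideal.Quotient.field (maximalIdeal A)
  rw [ringKrullDim_eq_zero_of_field] at h0
  have hJR : J ≤ R := Ideal.span_le.2 (by rintro _ ⟨i, rfl⟩; exact hR i)
  haveI : Ring.KrullDimLE 0 (A ⧸ J) := Ring.krullDimLE_iff.mpr h0.ge
  haveI : (R.map (Ideal.Quotient.mk J)).IsPrime :=
    Ideal.map_isPrime_of_surjective Ideal.Quotient.mk_surjective (by rwa [Ideal.mk_ker])
  haveI hmax : (R.map (Ideal.Quotient.mk J)).IsMaximal := Ideal.IsPrime.isMaximal' ‹_›
  haveI := hmax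
  have := Ideal.comap_isMaximal_of_surjective (Ideal.Quotient.mk J) Ideal.Quotient.mk_surjective (K := R.map (Ideal.Quotient.mk J))
  rw [Ideal.comap_map_quotientMk, sup_eq_right.mpr hJR] at this
  exact IsLocalRing.eq_maximalIdeal this

end Groth.Agent.LciH1Lib
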