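import Groth.Agent.LciH1Lib.Basic

/-!
Associated primes of flat local complete intersections are minimal in their fibres.
-/

set_option autoImplicit false
set_option linter.style.haveILetI false
set_option linter.unusedSectionVars false
universe u

open IsLocalRing TensorProduct

noncomputable section

namespace Groth.Agent.LciH1Lib

attribute [local instance] Algebra.TensorProduct.rightAlgebra

/-- A surjection from a local ring to a nontrivial ring is local. -/
theorem isLocalHom_of_surj {R S : Type u} [CommRing R] [IsLocalRing R] [CommRing S] [Nontrivial S]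
    (φ : R →+* S) (hφ : Function.Surjective φ) : IsLocalHom φ := by
  refine ⟨fun a ha => ?_⟩
  obtain ⟨b, hb⟩ := hφ ↑(ha.unit⁻¹)
  by_contra hau
  have h1 : a * b ∈ maximalIdeal R := Ideal.mul_mem_right _ _ hau
  have h2 : a * b - 1 ∈ maximalIdeal R := by
    refine IsLocalRing.le_maximalIdeal (RingHom.ker_ne_top φ) ?_
    rw [RingHom.mem_ker, map_sub, map_mul, hb, map_one, sub_eq_zero]
    exact ha.mul_val_inv
  exact (maximalIdeal.isMaximal R).ne_top ((Ideal.eq_top_iff_one _).2 (by simpa using sub_mem h1 h2))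

variable {A P : Type u} [CommRing A] [CommRing P] [Algebra A P] [Module.Flat A P] [IsNoetherianRing P]

/-- An associated prime of `P/pP` lies over `p`. -/
theorem comap_eq_of_ass (p : Ideal A) [p.IsPrime] (𝔓 : Ideal P)
    (h : 𝔓 ∈ associatedPrimes P (P ⧸ p.map (algebraMap A P))) : 𝔓.comap (algebraMap A P) = p := by
  obtain ⟨h𝔓, g, hg⟩ := (isAssociatedPrime_iff_exists_injective_linearMap _ _).1 h
  let x := g (Ideal.Quotient.mk 𝔓 1)
  have hx : ∀ r : P, r • x = 0 ↔ r ∈ 𝔓 := fun r => by
    rw [← map_smul, map_eq_zero_iff _ hg, Algebra.smul_def, Ideal.Quotient.algebraMap_eq, ← map_mul,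
      mul_one, Ideal.Quotient.eq_zero_iff_mem]
  refine le_antisymm (fun a ha => ?_) (fun a ha => ?_)
  · by_contra hap
    haveI : Module.Flat (A ⧸ p) ((A ⧸ p) ⊗[A] P) := inferInstance
    have hinj : Function.Injective fun z : (A ⧸ p) ⊗[A] P => a • z := by
      have : Function.Injective ((LinearMap.lsmul A (A ⧸ p) a).rTensor P) := by
        refine Module.Flat.rTensor_preserves_injective_linearMap _ ?_
        rw [injective_iff_map_eq_zero]
        intro z hz
        obtain ⟨z, rfl⟩ := Ideal.Quotient.mk_surjective z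
        change Ideal.Quotient.mk p (a * z) = 0 at hz
        rw [Ideal.Quotient.eq_zero_iff_mem] at hz ⊢
        exact (‹p.IsPrime›.mem_or_mem hz).resolve_left hap
      have e : ∀ z, (LinearMap.lsmul A (A ⧸ p) a).rTensor P z = a • z := fun z => by
        induction z using TensorProduct.induction_on with
        | zero => simp
        | tmul u v => simp [smul_tmul']
        | add u v hu hv => simp only [map_add, smul_add, hu, hv]
      exact fun z w hzw => this (by rw [e, e]; exact hzw)
    let E₂ : P ⊗[A] (A ⧸ p) ≃ₗ[A] P ⧸ p.map (algebraMap A P) :=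
      LinearEquiv.restrictScalars A (Algebra.TensorProduct.quotIdealMapEquivTensorQuot P p).symm.toLinearEquiv
    let E : (A ⧸ p) ⊗[A] P ≃ₗ[A] P ⧸ p.map (algebraMap A P) :=
      LinearEquiv.trans (TensorProduct.comm A (A ⧸ p) P) E₂
    have hax : a • E.symm x = 0 := by
      rw [← map_smul, show a • x = algebraMap A P a • x from (algebraMap_smul P a x).symm,
        (hx _).2 ha, map_zero]
    have hx0 : x = 0 := by
      have := hinj (hax.trans (smul_zero a).symm)
      simpa using congrArg E this
    exact h𝔓.one_notMem ((hx 1).1 (by rw [hx0, smul_zero]))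
  · refine Ideal.mem_comap.2 ((hx _).1 ?_)
    obtain ⟨z, hz⟩ := Ideal.Quotient.mk_surjective x
    rw [← hz, Algebra.smul_def, Ideal.Quotient.algebraMap_eq, ← map_mul, Ideal.Quotient.eq_zero_iff_mem]
    exact Ideal.mul_mem_right _ _ (Ideal.mem_map_of_mem _ ha)

omit [Module.Flat A P] in
/-- `H₁`-regularity modulo an ideal of the base. -/
theorem isH1Regular_mod {O L : Type u} [CommRing O] [CommRing L] [Algebra A O] (p : Ideal A)
    (φ : O →+* L) (hφ : Function.Surjective φ) (hker : RingHom.ker φ = p.map (algebraMap A O)) {c : ℕ}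
    (fO : Fin c → O) (hflat : Module.Flat A (O ⧸ Ideal.span (Set.range fO))) (hH : CAlgX.IsH1Regular fO) :
    CAlgX.IsH1Regular (fun i => φ (fO i)) := by
  have hH' := S9273.result A O (A ⧸ p) c fO hflat hH
  let e : (A ⧸ p) ⊗[A] O ≃+* L :=
    (Algebra.TensorProduct.comm A (A ⧸ p) O).toRingEquiv.trans
      ((Algebra.TensorProduct.quotIdealMapEquivTensorQuot O p).symm.toRingEquiv.trans
        ((Ideal.quotEquivOfEq hker.symm).trans (RingHom.quotientKerEquivOfSurjective hφ)))
  have he : ∀ z : O, e ((1 : A ⧸ p) ⊗ₜ[A] z) = φ z := fun z => by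
    have h2 : (Algebra.TensorProduct.quotIdealMapEquivTensorQuot O p).symm (z ⊗ₜ[A] (1 : A ⧸ p)) =
        Ideal.Quotient.mk (p.map (algebraMap A O)) z :=
      (Algebra.TensorProduct.quotIdealMapEquivTensorQuot O p).symm_apply_eq.mpr rfl
    simp only [e, RingEquiv.trans_apply, AlgEquiv.toRingEquiv_eq_coe, AlgEquiv.coe_ringEquiv,
      Algebra.TensorProduct.comm_tmul, h2]
    rfl
  have := isH1Regular_equiv e hH'
  simpa only [he] using this

variable [IsNoetherianRing A]

theorem eq_of_ass_fibre {n : ℕ} (f : MvPolynomial (Fin n) A →ₐ[A] P) (hf : Function.Surjective f)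
    (hI : LCI.IsKoszulRegularIdeal (RingHom.ker f.toRingHom)) (𝔓 : Ideal P) [𝔓.IsPrime]
    (hass : 𝔓 ∈ associatedPrimes P (P ⧸ (𝔓.comap (algebraMap A P)).map (algebraMap A P)))
    (𝔔 : Ideal P) [𝔔.IsPrime] (hle : 𝔔 ≤ 𝔓)
    (hcomap : 𝔔.comap (algebraMap A P) = 𝔓.comap (algebraMap A P)) : 𝔔 = 𝔓 := by
  classical
  let S := MvPolynomial (Fin n) A
  let I := RingHom.ker f.toRingHom
  let r : PrimeSpectrum S := ⟨𝔓.comap f.toRingHom, inferInstance⟩
  have hIr : I ≤ r.asIdeal := fun z hz => by
    change f z ∈ 𝔓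
    rw [show f z = 0 from hz]; exact zero_mem _
  obtain ⟨g, hg, l, hl, hIl⟩ := hI r hIr
  let O := Localization.AtPrime r.asIdeal
  have hle' : Submonoid.powers g ≤ r.asIdeal.primeCompl := Submonoid.powers_le.mpr hg
  letI : Algebra (Localization.Away g) O :=
    IsLocalization.localizationAlgebraOfSubmonoidLe _ O _ _ hle'
  haveI : IsScalarTower S (Localization.Away g) O :=
    IsLocalization.localization_isScalarTower_of_submonoid_le _ O _ _ hle'
  haveI : IsLocalization (r.asIdeal.primeCompl.map (algebraMap S (Localization.Away g))) O :=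
    IsLocalization.isLocalization_of_submonoid_le (Localization.Away g) O _ _ hle'
  haveI : Module.Flat (Localization.Away g) O :=
    IsLocalization.flat O (r.asIdeal.primeCompl.map (algebraMap S (Localization.Away g)))
  let fO : Fin l.length → O := fun i => algebraMap (Localization.Away g) O (l.get i)
  have hH : CAlgX.IsH1Regular fO := RelDivLib.isH1Regular_flat (isH1Regular_get hl)
  have hspan : Ideal.span (Set.range fO) = I.map (algebraMap S O) := by
    rw [IsScalarTower.algebraMap_eq S (Localization.Away g) O, ← Ideal.map_map]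
    refine Eq.trans ?_ (congrArg (Ideal.map (algebraMap (Localization.Away g) O)) hIl).symm
    rw [Ideal.map_span]
    congr 1
    rw [← Set.range_list_get, ← Set.range_comp]
    rfl
  -- `O/IO` is the localisation of `P`
  have hflat : Module.Flat A (O ⧸ Ideal.span (Set.range fO)) := by
    let ψ₀ := Localization.localRingHom r.asIdeal 𝔓 f.toRingHom rfl
    let ψ : O →ₐ[A] Localization.AtPrime 𝔓 :=
      { toRingHom := ψ₀
        commutes' := fun a => by
          change ψ₀ (algebraMap A O a) = _
          rw [IsScalarTower.algebraMap_apply A S O, Localization.localRingHom_to_map,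
            IsScalarTower.algebraMap_apply A P (Localization.AtPrime 𝔓)]
          exact congrArg _ (f.commutes a) }
    have hψs : Function.Surjective ψ := fun z => by
      obtain ⟨x, ⟨s, hs⟩, rfl⟩ := IsLocalization.exists_mk'_eq 𝔓.primeCompl z
      obtain ⟨x, rfl⟩ := hf x
      obtain ⟨s, rfl⟩ := hf s
      refine ⟨IsLocalization.mk' O x (⟨s, hs⟩ : r.asIdeal.primeCompl), ?_⟩
      change ψ₀ _ = _
      rw [Localization.localRingHom_mk']
      rfl
    have hker : RingHom.ker ψ.toRingHom = Ideal.span (Set.range fO) := by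
      rw [hspan]
      refine le_antisymm (fun z hz => ?_) (Ideal.map_le_iff_le_comap.2 fun x hx => ?_)
      · obtain ⟨x, ⟨s, hs⟩, rfl⟩ := IsLocalization.exists_mk'_eq r.asIdeal.primeCompl z
        rw [RingHom.mem_ker] at hz
        change ψ₀ _ = 0 at hz
        rw [Localization.localRingHom_mk', IsLocalization.mk'_eq_zero_iff] at hz
        obtain ⟨⟨w, hw⟩, hw0⟩ := hz
        obtain ⟨v, rfl⟩ := hf w
        rw [IsLocalization.mk'_mem_map_algebraMap_iff]
        exact ⟨v, hw, (map_mul f v x).trans hw0⟩
      · change ψ₀ (algebraMap S O x) = 0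
        rw [Localization.localRingHom_to_map]
        change algebraMap P _ (f x) = 0
        rw [show f x = 0 from hx, map_zero]
    haveI : Module.Flat A (Localization.AtPrime 𝔓) := Module.Flat.trans A P (Localization.AtPrime 𝔓)
    exact Module.Flat.of_linearEquiv ((Ideal.quotientEquivAlgOfEq A hker.symm).trans
      (Ideal.quotientKerAlgEquivOfSurjective hψs)).toLinearEquiv
  let p := FibreDepth.basePrime A r
  have hp : 𝔓.comap (algebraMap A P) = p := by
    change _ = (𝔓.comap f.toRingHom).comap (algebraMap A S)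
    rw [Ideal.comap_comap]
    congr 1
    exact f.comp_algebraMap.symm
  -- base change to the fibre
  obtain ⟨φ, hφ, hφker⟩ := FibreDepth.exists_surjective_fibRing (A := A) r
  let L := FibreDepth.FibRing A r
  have hHL : CAlgX.IsH1Regular (fun i => φ (fO i)) := by
    have h := isH1Regular_mod (A := A) (O := O) (L := L) p φ.toRingHom hφ hφker fO hflat hH
    exact h
  haveI : IsRegularLocalRing L := FibreDepth.isRegularLocalRing_fibRing r
  haveI hCM := RatliffLib.cm_of_regularLocal L
  -- the associated element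
  rw [hp] at hass
  obtain ⟨-, g₁, hg₁⟩ := (isAssociatedPrime_iff_exists_injective_linearMap _ _).1 hass
  obtain ⟨y₁, hy₁⟩ := Ideal.Quotient.mk_surjective (g₁ (Ideal.Quotient.mk 𝔓 1))
  obtain ⟨y₀, rfl⟩ := hf y₁
  have hy : ∀ s : S, f (s * y₀) ∈ p.map (algebraMap A P) ↔ s ∈ r.asIdeal := fun s => by
    rw [← Ideal.Quotient.eq_zero_iff_mem, map_mul, map_mul, hy₁, ← Ideal.Quotient.algebraMap_eq,
      ← Algebra.smul_def, ← map_smul, map_eq_zero_iff _ hg₁, Algebra.smul_def,
      Ideal.Quotient.algebraMap_eq, ← map_mul, mul_one, Ideal.Quotient.eq_zero_iff_mem]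
    rfl
  let K : Ideal S := I ⊔ p.map (algebraMap A S)
  have hK : K = (p.map (algebraMap A P)).comap f.toRingHom := by
    have h1 := Ideal.comap_map_of_surjective f.toRingHom hf (p.map (algebraMap A S))
    rw [Ideal.map_map, show f.toRingHom.comp (algebraMap A S) = algebraMap A P from f.comp_algebraMap] at h1
    rw [h1, sup_comm, ← RingHom.ker_eq_comap_bot]
  have hspanL : Ideal.span (Set.range fun i => φ (fO i)) = (K.map (algebraMap S O)).map φ.toRingHom := by
    have hpS : ((p.map (algebraMap A S)).map (algebraMap S O)).map φ.toRingHom = ⊥ := by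
      rw [Ideal.map_map (f := algebraMap A S), ← IsScalarTower.algebraMap_eq, ← hφker,
        Ideal.map_eq_bot_iff_le_ker]
    rw [Ideal.map_sup, Ideal.map_sup, hpS, sup_bot_eq, ← hspan, Ideal.map_span, ← Set.range_comp]
    rfl
  let y : L := φ (algebraMap S O y₀)
  have hyJ : y ∉ Ideal.span (Set.range fun i => φ (fO i)) := by
    intro hmem
    rw [hspanL] at hmem
    obtain ⟨w, hw, hwy⟩ := (Ideal.mem_map_iff_of_surjective _ hφ).1 hmem
    have hker' : w - algebraMap S O y₀ ∈ (p.map (algebraMap A S)).map (algebraMap S O) := by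
      rw [Ideal.map_map, ← IsScalarTower.algebraMap_eq, ← hφker, RingHom.mem_ker, map_sub]
      exact sub_eq_zero.2 hwy
    have hy0K : algebraMap S O y₀ ∈ K.map (algebraMap S O) := by
      rw [← sub_sub_cancel w (algebraMap S O y₀)]
      exact sub_mem hw (Ideal.map_mono le_sup_right hker')
    obtain ⟨s, hs, hsK⟩ := (IsLocalization.algebraMap_mem_map_algebraMap_iff r.asIdeal.primeCompl O K y₀).1 hy0K
    rw [hK] at hsK
    exact hs ((hy s).1 hsK)
  have hmax : ∀ z ∈ maximalIdeal L, z * y ∈ Ideal.span (Set.range fun i => φ (fO i)) := by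
    intro z hz
    obtain ⟨w, rfl⟩ := hφ z
    obtain ⟨q, ⟨s, hs⟩, rfl⟩ := IsLocalization.exists_mk'_eq r.asIdeal.primeCompl w
    have hq : q ∈ r.asIdeal := by
      by_contra hq
      exact hz ((IsUnit.map φ.toRingHom ((IsLocalization.AtPrime.isUnit_mk'_iff O r.asIdeal q ⟨s, hs⟩).2 hq)))
    rw [hspanL, ← map_mul]
    refine Ideal.mem_map_of_mem φ.toRingHom ?_
    rw [mul_comm, IsLocalization.mul_mk'_eq_mk'_of_mul]
    refine (IsLocalization.mk'_mem_iff).2 ?_
    refine Ideal.mem_map_of_mem _ ?_
    rw [hK, mul_comm]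
    exact (hy q).2 hq
  have hm : ∀ i, φ (fO i) ∈ maximalIdeal L := fun i => by
    have h1 : fO i ∈ maximalIdeal O := by
      have h2 : Ideal.span (Set.range fO) ≤ maximalIdeal O := by
        rw [hspan, ← Localization.AtPrime.map_eq_maximalIdeal]
        exact Ideal.map_mono hIr
      exact h2 (Ideal.subset_span ⟨i, rfl⟩)
    haveI := isLocalHom_of_surj (R := O) (S := L) φ.toRingHom hφ
    exact map_nonunit φ.toRingHom _ h1
  let r' : Ideal O := (𝔔.comap f.toRingHom).map (algebraMap S O)
  have hd : Disjoint (r.asIdeal.primeCompl : Set S) (𝔔.comap f.toRingHom) :=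
    Set.disjoint_left.2 fun x hx hxQ => hx (hle hxQ)
  haveI hr' : r'.IsPrime := IsLocalization.isPrime_of_isPrime_disjoint r.asIdeal.primeCompl O _ inferInstance hd
  have hKQ : K ≤ 𝔔.comap f.toRingHom := by
    rw [hK]
    refine Ideal.comap_mono (Ideal.map_le_iff_le_comap.2 ?_)
    rw [hcomap, hp]
  have hkerr' : RingHom.ker φ.toRingHom ≤ r' := by
    rw [hφker, IsScalarTower.algebraMap_eq A S O, ← Ideal.map_map]
    exact Ideal.map_mono (le_sup_right.trans hKQ)
  haveI : (r'.map φ.toRingHom).IsPrime := Ideal.map_isPrime_of_surjective hφ hkerr'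
  have hR : ∀ i, φ (fO i) ∈ r'.map φ.toRingHom := fun i => by
    refine Ideal.mem_map_of_mem φ.toRingHom ?_
    have h1 : Ideal.span (Set.range fO) ≤ r' := hspan.le.trans (Ideal.map_mono (le_sup_left.trans hKQ))
    exact h1 (Ideal.subset_span ⟨i, rfl⟩)
  have heq := eq_maximalIdeal_of_h1 (A := L)
    LocCoh.IsCohenMacaulayLocalRing.supportDim_eq_depth _ hm hHL y hyJ hmax _ hR
  have h1 : r' = maximalIdeal O := by
    have h2 := congrArg (Ideal.comap φ.toRingHom) heq
    haveI := isLocalHom_of_surj (R := O) (S := L) φ.toRingHom hφ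
    rw [Ideal.comap_map_of_surjective φ.toRingHom hφ, ← RingHom.ker_eq_comap_bot, sup_eq_left.2 hkerr',
      IsLocalRing.maximalIdeal_comap] at h2
    exact h2
  have h3 := congrArg (Ideal.comap (algebraMap S O)) h1
  exact Ideal.comap_injective_of_surjective f.toRingHom hf
    ((IsLocalization.under_map_of_isPrime_disjoint r.asIdeal.primeCompl O inferInstance hd).symm.trans
      (h3.trans (IsLocalization.AtPrime.comap_maximalIdeal O r.asIdeal)))

end Groth.Agent.LciH1Lib
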