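import Groth.Agent.LciH1Lib.Fibre
import Groth.Agent.S2069

/-!
Vanishing of the first cotangent homology of flat lci algebras with generically smooth fibres.
-/

set_option autoImplicit false
set_option linter.style.haveILetI false
universe u

open TensorProduct

noncomputable section

namespace Groth.Agent.LciH1Lib

/-- Nonzerodivisors kill no nonzero element of the conormal module of a Koszul-regular ideal. -/
theorem mem_sq_of_mul_mem_sq {S P : Type u} [CommRing S] [CommRing P] (f : S →+* P)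
    (hI : LCI.IsKoszulRegularIdeal (RingHom.ker f)) (s x : S) (hs : f s ∈ nonZeroDivisors P)
    (hx : x ∈ RingHom.ker f) (hsx : s * x ∈ RingHom.ker f ^ 2) : x ∈ RingHom.ker f ^ 2 := by
  classical
  by_contra hne
  let I := RingHom.ker f
  let J : Ideal S := Submodule.comap (LinearMap.mulRight S x) (I ^ 2)
  have hJ : ∀ z, z ∈ J ↔ z * x ∈ I ^ 2 := fun z => Iff.rfl
  have hJtop : J ≠ ⊤ := fun h => hne (by simpa using (hJ 1).1 (h ▸ Submodule.mem_top))
  obtain ⟨𝔯, h𝔯, hJ𝔯⟩ := Ideal.exists_le_maximal J hJtop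
  have hIJ : I ≤ J := fun z hz => (hJ z).2 (by rw [pow_two]; exact Ideal.mul_mem_mul hz hx)
  haveI := h𝔯.isPrime
  obtain ⟨g, hg, l, hl, hIl⟩ := hI ⟨𝔯, inferInstance⟩ (hIJ.trans hJ𝔯)
  let T := Localization.Away g
  have hf := isH1Regular_get hl
  have hK : Ideal.span (Set.range l.get) = I.map (algebraMap S T) := by
    rw [Set.range_list_get]
    exact hIl.symm
  have hxK : algebraMap S T x ∈ Ideal.span (Set.range l.get) := by
    rw [hK]
    exact Ideal.mem_map_of_mem _ hx
  obtain ⟨a, ha⟩ := Ideal.mem_span_range_iff_exists_fun.1 hxK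
  have hsum : ∑ k, (algebraMap S T s * a k) * l.get k ∈
      Ideal.span (Set.range l.get) * Ideal.span (Set.range l.get) := by
    have e : ∑ k, (algebraMap S T s * a k) * l.get k = algebraMap S T (s * x) := by
      rw [map_mul, ← ha, Finset.mul_sum]
      exact Finset.sum_congr rfl fun k _ => mul_assoc _ _ _
    rw [e, hK, ← Ideal.map_mul, ← pow_two]
    exact Ideal.mem_map_of_mem _ hsx
  have hak : ∀ k, a k ∈ Ideal.span (Set.range l.get) := by
    intro k
    have h1 := ConormalLib.coeff_mem_of_h1 hf (fun k => algebraMap S T s * a k) hsum k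
    obtain ⟨q, ⟨m, hm⟩, hq⟩ := IsLocalization.exists_mk'_eq (Submonoid.powers g) (a k)
    rw [hK, ← hq] at h1 ⊢
    rw [IsLocalization.mul_mk'_eq_mk'_of_mul, IsLocalization.mk'_mem_map_algebraMap_iff] at h1
    obtain ⟨w, hw, hwI⟩ := h1
    rw [IsLocalization.mk'_mem_map_algebraMap_iff]
    refine ⟨w, hw, ?_⟩
    have h2 : f s * f (w * q) = 0 := by
      rw [← map_mul, mul_left_comm]
      exact hwI
    exact (mem_nonZeroDivisors_iff_right.1 hs) _ (by rw [mul_comm]; exact h2)
  have hx2 : algebraMap S T x ∈ (I ^ 2).map (algebraMap S T) := by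
    rw [pow_two, Ideal.map_mul, ← hK, ← ha]
    exact Ideal.sum_mem _ fun k _ => Ideal.mul_mem_mul (hak k) (Ideal.subset_span ⟨k, rfl⟩)
  rw [IsLocalization.algebraMap_mem_map_algebraMap_iff (Submonoid.powers g)] at hx2
  obtain ⟨w, ⟨m, rfl⟩, hw⟩ := hx2
  exact hg (‹𝔯.IsPrime›.mem_of_pow_mem m (hJ𝔯 ((hJ _).2 hw)))

/-- The cotangent homology of a flat lci algebra with generically smooth fibres vanishes. -/
theorem subsingleton_h1Cotangent {A P : Type u} [CommRing A] [IsNoetherianRing A] [CommRing P]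
    [Algebra A P] [Module.Flat A P] (hlci : LCI.IsLCI A P)
    (hgs : ∀ 𝔓 : PrimeSpectrum P,
      (∀ 𝔔 : PrimeSpectrum P, 𝔔 ≤ 𝔓 →
          𝔔.asIdeal.comap (algebraMap A P) = 𝔓.asIdeal.comap (algebraMap A P) → 𝔔 = 𝔓) →
        𝔓 ∈ Algebra.smoothLocus A P) :
    Subsingleton (Algebra.H1Cotangent A P) := by
  classical
  obtain ⟨hft, n, f, hf, hI⟩ := hlci
  haveI := hft
  haveI : IsNoetherianRing P := Algebra.FiniteType.isNoetherianRing A P
  refine subsingleton_of_forall_eq 0 fun h => ?_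
  -- a nonzerodivisor killing `h`
  have hkill : ∀ 𝔓 ∈ associatedPrimes P P, ∃ s : P, s ∉ 𝔓 ∧ s • h = 0 := by
    intro 𝔓 h𝔓
    haveI : 𝔓.IsPrime := h𝔓.1
    rw [← LinearEquiv.AssociatedPrimes.eq (TensorProduct.AlgebraTensorModule.rid A P P),
      S2069.result (R := A) (S := P) (M := A) (N := P)] at h𝔓
    simp only [Set.mem_iUnion] at h𝔓
    obtain ⟨p, hp, h𝔓p⟩ := h𝔓
    haveI : p.IsPrime := hp.1
    rw [LinearEquiv.AssociatedPrimes.eq (Submodule.quotEquivOfEq
      (p.map (algebraMap A P) • (⊤ : Submodule P P)) (p.map (algebraMap A P))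
      (by rw [smul_eq_mul, Ideal.mul_top]))] at h𝔓p
    have hcomap := comap_eq_of_ass p 𝔓 h𝔓p
    have hsm := hgs ⟨𝔓, inferInstance⟩ fun 𝔔 hle heq => PrimeSpectrum.ext
      (eq_of_ass_fibre f hf hI 𝔓 (by rw [hcomap]; exact h𝔓p) 𝔔.asIdeal hle heq)
    rw [Algebra.smoothLocus_eq_compl_support_inter] at hsm
    exact Module.notMem_support_iff'.1 hsm.1 h
  obtain ⟨s, hs, hsh⟩ : ∃ s ∈ nonZeroDivisors P, s • h = 0 := by
    let J : Ideal P := LinearMap.ker (LinearMap.toSpanSingleton P _ h)
    have hJ : ∀ s : P, s ∈ J ↔ s • h = 0 := fun s => Iff.rfl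
    by_contra hne
    push Not at hne
    let F := (associatedPrimes.finite P P).toFinset
    have hsub : (J : Set P) ⊆ ⋃ i ∈ (↑F : Set (Ideal P)), (i : Set P) := fun z hz => by
      have hz' : z ∉ nonZeroDivisors P := fun hz' => hne z hz' ((hJ z).1 hz)
      rw [Set.Finite.coe_toFinset, biUnion_associatedPrimes_eq_compl_nonZeroDivisors]
      exact hz'
    obtain ⟨i, hi, hle⟩ := (Ideal.subset_union_prime (f := fun i : Ideal P => i) ⊥ ⊥
      (fun i hi _ _ => ((associatedPrimes.finite P P).mem_toFinset.1 hi).1)).1 hsub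
    obtain ⟨s, hs, hsh⟩ := hkill i ((associatedPrimes.finite P P).mem_toFinset.1 hi)
    exact hs (hle ((hJ s).2 hsh))
  -- the conormal module of the presentation
  have hav : MvPolynomial.aeval (fun i => f (MvPolynomial.X i)) = f := (MvPolynomial.aeval_unique f).symm
  let G : Algebra.Generators A P (Fin n) :=
    Algebra.Generators.ofSurjective (fun i => f (MvPolynomial.X i)) (by rw [hav]; exact hf)
  obtain ⟨h', rfl⟩ := G.equivH1Cotangent.surjective h
  rw [← map_smul, LinearEquiv.map_eq_zero_iff] at hsh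
  suffices h' = 0 by rw [this, map_zero]
  apply Algebra.Extension.h1Cotangentι_injective
  rw [map_zero]
  have hsh' : s • Algebra.Extension.h1Cotangentι h' = 0 := by rw [← map_smul, hsh, map_zero]
  obtain ⟨x, hx⟩ := Algebra.Extension.Cotangent.mk_surjective (Algebra.Extension.h1Cotangentι h')
  rw [← hx] at hsh' ⊢
  obtain ⟨s', rfl⟩ := G.toExtension.algebraMap_surjective s
  rw [algebraMap_smul, ← map_smul, Algebra.Extension.Cotangent.mk_eq_zero_iff] at hsh'
  rw [Algebra.Extension.Cotangent.mk_eq_zero_iff]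
  have hker : G.toExtension.ker = RingHom.ker f.toRingHom := by
    change RingHom.ker (MvPolynomial.aeval (fun i => f (MvPolynomial.X i))).toRingHom = _
    rw [hav]
  have hval : f s' = algebraMap G.toExtension.Ring P s' := by
    change f s' = MvPolynomial.aeval (fun i => f (MvPolynomial.X i)) s'
    rw [hav]
  rw [← hval] at hs
  have h9 : s' * x.1 ∈ G.toExtension.ker ^ 2 := hsh'
  have h10 : x.1 ∈ G.toExtension.ker := x.2
  have hker2 := congrArg (fun J : Ideal G.toExtension.Ring => J ^ 2) hker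
  replace h9 := (hker2.le : G.toExtension.ker ^ 2 ≤ _) h9
  replace h10 := hker.le h10
  refine (hker2.ge : _ ≤ G.toExtension.ker ^ 2) ?_
  exact mem_sq_of_mul_mem_sq f.toRingHom hI s' x.1 hs h10 h9

end Groth.Agent.LciH1Lib
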